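import Mathlib.LinearAlgebra.Matrix.SpecialLinearGroup
import Mathlib.FieldTheory.Finite.Basic
import Mathlib.Tactic

/-!
Products of two elements of one elliptic class of `SL₂(q)`.
-/

set_option autoImplicit false

namespace Cfsg.Agent.SpSquare

open Matrix Polynomial

variable {F : Type*} [Field F] [Fintype F]

theorem two_eq_zero_of (h2 : ringChar F = 2) : (2 : F) = 0 := by
  haveI := ringChar.of_eq h2
  exact CharTwo.two_eq_zero

theorem two_ne_zero_of (h2 : ringChar F ≠ 2) : (2 : F) ≠ 0 := Ring.two_ne_zero h2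

/-- `w ^ 2 = D * v ^ 2 + K` is soluble. -/
theorem exists_sq_eq (h2 : ringChar F ≠ 2) {D : F} (hD : D ≠ 0) (K : F) :
    ∃ w v : F, w ^ 2 = D * v ^ 2 + K := by
  have hodd : Fintype.card F % 2 = 1 := FiniteField.odd_card_of_char_ne_two h2
  have hg : (C (-D) * X ^ 2 + C 0 * X + C (-K) : F[X]).degree = 2 :=
    Polynomial.degree_quadratic (neg_ne_zero.2 hD)
  obtain ⟨w, v, hwv⟩ := FiniteField.exists_root_sum_quadratic (f := (X : F[X]) ^ 2)
    (g := C (-D) * X ^ 2 + C 0 * X + C (-K)) (Polynomial.degree_X_pow 2) hg hodd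
  refine ⟨w, v, ?_⟩
  simp at hwv
  linear_combination hwv

/-- A trace without eigenvalue. -/
def Irr (t : F) : Prop := ∀ c : F, c ^ 2 - t * c + 1 ≠ 0

theorem Irr.disc {t : F} (ht : Irr t) (h2 : ringChar F ≠ 2) : ¬ ∃ w : F, w ^ 2 = t ^ 2 - 4 := by
  rintro ⟨w, hw⟩
  have h := two_ne_zero_of h2
  refine ht ((t + w) / 2) ?_
  field_simp
  linear_combination hw

theorem Irr.disc_ne {t : F} (ht : Irr t) (h2 : ringChar F ≠ 2) : t ^ 2 - 4 ≠ 0 :=
  fun h => ht.disc h2 ⟨0, by rw [h]; simp⟩

/-- The companion element of trace `t`. -/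
def comp (t : F) : Matrix.SpecialLinearGroup (Fin 2) F :=
  ⟨!![0, -1; 1, t], by rw [Matrix.det_fin_two_of]; ring⟩

theorem isConj_comp {t : F} (ht : Irr t) (X : Matrix.SpecialLinearGroup (Fin 2) F)
    (hX : X 0 0 + X 1 1 = t) : IsConj (comp t) X := by
  have hd := X.det_coe
  rw [Matrix.det_fin_two] at hd
  set a := X 0 0
  set b := X 0 1
  set c := X 1 0
  set d := X 1 1
  have hc : c ≠ 0 := by
    intro h
    apply ht a
    rw [← hX]
    rw [h] at hd
    linear_combination -hd
  obtain ⟨v, u, hvu⟩ : ∃ v u : F, c * v ^ 2 + (d - a) * v * u - b * u ^ 2 = 1 := by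
    by_cases h2 : ringChar F = 2
    · obtain ⟨v, hv⟩ := FiniteField.isSquare_of_char_two h2 c⁻¹
      exact ⟨v, 0, by rw [show v ^ 2 = c⁻¹ from by rw [hv]; ring]; field_simp; ring⟩
    · obtain ⟨w, u, hw⟩ := exists_sq_eq h2 (ht.disc_ne h2) (4 * c)
      have h := two_ne_zero_of h2
      refine ⟨(-(d - a) * u + w) / (2 * c), u, ?_⟩
      rw [← hX] at hw
      field_simp
      linear_combination hw + 4 * u ^ 2 * hd
  refine isConj_iff.2 ⟨⟨!![v, a * v + b * u; u, c * v + d * u],
    by rw [Matrix.det_fin_two_of]; linear_combination hvu⟩, ?_⟩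
  refine mul_inv_eq_iff_eq_mul.2 ?_
  apply Subtype.ext
  change !![v, a * v + b * u; u, c * v + d * u] * !![0, -1; 1, t] =
    (X : Matrix (Fin 2) (Fin 2) F) * !![v, a * v + b * u; u, c * v + d * u]
  rw [show (X : Matrix (Fin 2) (Fin 2) F) = !![a, b; c, d] from Matrix.eta_fin_two _]
  ext i j
  fin_cases i <;> fin_cases j <;> simp [Matrix.mul_apply, Fin.sum_univ_two]
  · rw [← hX]; linear_combination v * hd
  · rw [← hX]; linear_combination u * hd

omit [Fintype F] in
theorem exists_frame (M : Matrix (Fin 2) (Fin 2) F)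
    (hns : ¬ (M 0 1 = 0 ∧ M 1 0 = 0 ∧ M 0 0 = M 1 1)) :
    ∃ v u : F, v * (M 1 0 * v + M 1 1 * u) - u * (M 0 0 * v + M 0 1 * u) ≠ 0 := by
  by_contra! h
  have h1 := h 1 0
  have h2 := h 0 1
  have h3 := h 1 1
  simp at h1 h2
  refine hns ⟨h2, h1, ?_⟩
  simp [h1, h2] at h3
  linear_combination -h3

/-- Every nonscalar matrix of trace different from `2` is a product of two elements of trace `t`. -/
theorem exists_split {t : F} (ht : Irr t) (ht0 : t ≠ 0)
    (M : Matrix.SpecialLinearGroup (Fin 2) F)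
    (hns : ¬ (M 0 1 = 0 ∧ M 1 0 = 0 ∧ M 0 0 = M 1 1)) (hs2 : M 0 0 + M 1 1 ≠ 2) :
    ∃ X Y : Matrix.SpecialLinearGroup (Fin 2) F,
      X 0 0 + X 1 1 = t ∧ Y 0 0 + Y 1 1 = t ∧ M = X * Y := by
  set s := M 0 0 + M 1 1 with hs
  obtain ⟨x, z, hxz⟩ : ∃ x z : F, x * (t - x) - z * (z + s * x - t) = 1 := by
    by_cases h2 : ringChar F = 2
    · have h := two_eq_zero_of h2
      have hs0 : s ≠ 0 := fun e => hs2 (by rw [e, h])
      set z := t / s with hz
      have hsz : s * z = t := by rw [hz]; field_simp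
      obtain ⟨x, hx⟩ := FiniteField.isSquare_of_char_two h2 (z ^ 2 + t * z + 1)
      refine ⟨x, z, ?_⟩
      linear_combination hx - x * hsz + (-z ^ 2 - 1) * h
    · have h := two_ne_zero_of h2
      have h4 : (4 : F) ≠ 0 := by
        rw [show (4 : F) = 2 * 2 by norm_num]; exact mul_ne_zero h h
      by_cases hm : s = -2
      · obtain ⟨z, hz⟩ : ∃ z : F, 8 * t * z + (t ^ 2 - 4) = 0 := by
          have h8 : (8 : F) * t ≠ 0 := by
            rw [show (8 : F) = 2 * 4 by norm_num]
            exact mul_ne_zero (mul_ne_zero h h4) ht0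
          exact ⟨-(t ^ 2 - 4) / (8 * t), by rw [mul_div_cancel₀ _ h8]; ring⟩
        refine ⟨(t - s * z) / 2, z, ?_⟩
        rw [hm]
        field_simp
        linear_combination hz
      · have hA : s ^ 2 - 4 ≠ 0 := by
          intro e
          have : (s - 2) * (s + 2) = 0 := by linear_combination e
          rcases mul_eq_zero.1 this with e' | e'
          · exact hs2 (sub_eq_zero.1 e')
          · exact hm (eq_neg_of_add_eq_zero_left e')
        set B := -2 * t * (s - 2) with hB
        obtain ⟨w, v, hwv⟩ :=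
          exists_sq_eq h2 hA ((t ^ 2 - 4) - B ^ 2 / (4 * (s ^ 2 - 4)))
        set z := v - B / (2 * (s ^ 2 - 4)) with hz
        have hD : w ^ 2 = (s ^ 2 - 4) * z ^ 2 + B * z + (t ^ 2 - 4) := by
          rw [hwv, hz]; field_simp; ring
        refine ⟨(t - s * z + w) / 2, z, ?_⟩
        field_simp
        rw [hB] at hD
        linear_combination -hD
  obtain ⟨v, u, hvu⟩ := exists_frame (M : Matrix (Fin 2) (Fin 2) F) hns
  set P : Matrix (Fin 2) (Fin 2) F :=
    !![v, M 0 0 * v + M 0 1 * u; u, M 1 0 * v + M 1 1 * u] with hP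
  set Xc : Matrix (Fin 2) (Fin 2) F := !![x, z + s * x - t; z, t - x] with hXc
  set C₀ : Matrix (Fin 2) (Fin 2) F := !![0, -1; 1, s] with hC0
  have hPd : IsUnit P.det := by
    rw [hP, Matrix.det_fin_two_of]
    refine isUnit_iff_ne_zero.2 fun e => hvu ?_
    linear_combination e
  have hMP : (M : Matrix (Fin 2) (Fin 2) F) * P = P * C₀ := by
    have hd := M.det_coe
    rw [Matrix.det_fin_two] at hd
    ext i j
    fin_cases i <;> fin_cases j <;> simp [hP, hC0, Matrix.mul_apply, Fin.sum_univ_two, hs]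
    · linear_combination -v * hd
    · linear_combination -u * hd
  set X₀ : Matrix (Fin 2) (Fin 2) F := P * Xc * P⁻¹ with hX0
  have hdet : X₀.det = 1 := by
    rw [hX0, Matrix.det_mul, Matrix.det_mul, Matrix.det_nonsing_inv, mul_right_comm,
      Ring.mul_inverse_cancel _ hPd, one_mul, hXc, Matrix.det_fin_two_of]
    linear_combination hxz
  have htr : X₀.trace = t := by
    rw [hX0, Matrix.trace_mul_cycle, Matrix.nonsing_inv_mul _ hPd, Matrix.one_mul, hXc,
      Matrix.trace_fin_two_of]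
    ring
  have htrM : (X₀ * (M : Matrix (Fin 2) (Fin 2) F)).trace = t * (s - 1) := by
    have e : X₀ * (M : Matrix (Fin 2) (Fin 2) F) = P * (Xc * C₀) * P⁻¹ := by
      calc X₀ * (M : Matrix (Fin 2) (Fin 2) F)
          = X₀ * ((M : Matrix (Fin 2) (Fin 2) F) * P * P⁻¹) := by
            rw [Matrix.mul_nonsing_inv_cancel_right _ _ hPd]
        _ = P * Xc * (P⁻¹ * P) * C₀ * P⁻¹ := by rw [hMP, hX0]; simp only [Matrix.mul_assoc]
        _ = _ := by rw [Matrix.nonsing_inv_mul _ hPd, Matrix.mul_one, Matrix.mul_assoc P]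
    rw [e, Matrix.trace_mul_cycle, Matrix.nonsing_inv_mul _ hPd, Matrix.one_mul, hXc, hC0]
    simp [Matrix.trace_fin_two, Matrix.mul_apply, Fin.sum_univ_two]
    ring
  set X : Matrix.SpecialLinearGroup (Fin 2) F := ⟨X₀, hdet⟩
  refine ⟨X, X⁻¹ * M, ?_, ?_, (mul_inv_cancel_left X M).symm⟩
  · rw [Matrix.trace_fin_two] at htr; exact htr
  · rw [Matrix.trace_fin_two] at htr
    simp [Matrix.trace_fin_two, Matrix.mul_apply, Fin.sum_univ_two] at htrM
    rw [Matrix.SpecialLinearGroup.coe_mul, Matrix.SpecialLinearGroup.coe_inv,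
      Matrix.adjugate_fin_two]
    simp [X, Matrix.mul_apply, Fin.sum_univ_two]
    linear_combination s * htr - htrM

/-- For `q ≥ 4` some nonzero trace has no eigenvalue. -/
theorem exists_irr (hq : 4 ≤ Fintype.card F) : ∃ t : F, t ≠ 0 ∧ Irr t := by
  classical
  by_contra! h
  set f : Fˣ → F := fun l => (l : F) + ((l⁻¹ : Fˣ) : F) with hf
  set T : Finset F := Finset.univ.image f with hT
  have hsub : Finset.univ.erase (0 : F) ⊆ T := by
    intro t ht
    have ht0 : t ≠ 0 := (Finset.mem_erase.1 ht).1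
    have := h t ht0
    simp only [Irr, not_forall, ne_eq, not_not] at this
    obtain ⟨c, hc⟩ := this
    have hc0 : c ≠ 0 := by rintro rfl; simp at hc
    refine Finset.mem_image.2 ⟨Units.mk0 c hc0, Finset.mem_univ _, ?_⟩
    simp only [hf, Units.val_mk0, Units.val_inv_eq_inv_val]
    field_simp
    linear_combination hc
  have hcard : Fintype.card F - 1 ≤ T.card := by
    have := Finset.card_le_card hsub
    rwa [Finset.card_erase_of_mem (Finset.mem_univ _), Finset.card_univ] at this
  have hfib : ∀ t ∈ T, 2 ≤ (Finset.univ.filter fun l => f l = t).card +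
      ((if t = 2 then 1 else 0) + if t = -2 then 1 else 0) := by
    intro t ht
    obtain ⟨l, -, rfl⟩ := Finset.mem_image.1 ht
    have hpos : 1 ≤ (Finset.univ.filter fun m => f m = f l).card :=
      Finset.card_pos.2 ⟨l, by simp⟩
    by_cases hl : l⁻¹ = l
    · have h1 : (l : F) * l = 1 := by
        rw [← Units.val_mul]; nth_rewrite 1 [← hl]; simp
      rcases mul_self_eq_one_iff.1 h1 with e | e
      · have : f l = 2 := by simp only [hf, hl, e]; norm_num
        simp only [this, if_true] at hpos ⊢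
        omega
      · have : f l = -2 := by simp only [hf, hl, e]; norm_num
        simp only [this, if_true] at hpos ⊢
        omega
    · have : 1 < (Finset.univ.filter fun m => f m = f l).card := by
        refine Finset.one_lt_card.2 ⟨l, by simp, l⁻¹, ?_, fun e => hl e.symm⟩
        simp [hf, add_comm]
      omega
  have hsum := Finset.sum_le_sum hfib
  rw [Finset.sum_add_distrib, Finset.sum_add_distrib, ← Finset.card_eq_sum_card_fiberwise
    (fun x _ => Finset.mem_image_of_mem f (Finset.mem_univ x)), Finset.sum_const, smul_eq_mul,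
    Finset.card_univ, Fintype.card_units] at hsum
  have hle : ∀ a : F, (∑ t ∈ T, if t = a then 1 else 0) ≤ 1 := by
    intro a
    rw [Finset.sum_ite_eq']
    split <;> simp
  have := hle 2
  have := hle (-2)
  omega

end Cfsg.Agent.SpSquare
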