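import Cfsg.Agent.SpSquare.Elements
import Cfsg.Agent.SpSquare.TwoByTwo
import Mathlib.LinearAlgebra.FiniteDimensional.Basic
import Mathlib.LinearAlgebra.Matrix.CharP

/-!
`PSp₄(q)`, `q ≥ 4`: the class of `L a₀ (comp t)` squares to every nontrivial element.
-/

set_option autoImplicit false
set_option linter.unusedTactic false
set_option linter.unreachableTactic false
set_option linter.unusedSectionVars false

namespace Cfsg.Agent.SpSquare

open Matrix

variable {F : Type*} [Field F]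

/-! ### Products of two conjugates -/

/-- `g` is a product of two conjugates of `x`. -/
def Two {G : Type*} [Group G] (x g : G) : Prop := ∃ u v, IsConj x u ∧ IsConj x v ∧ g = u * v

theorem Two.conj {G : Type*} [Group G] {x g : G} (h : Two x g) (k : G) :
    Two x (k * g * k⁻¹) := by
  obtain ⟨u, v, hu, hv, rfl⟩ := h
  exact ⟨k * u * k⁻¹, k * v * k⁻¹, hu.trans (isConj_iff.2 ⟨k, rfl⟩),
    hv.trans (isConj_iff.2 ⟨k, rfl⟩), by group⟩

/-- The central element `-1`. -/
def negOne : Sp4 F := ⟨-1, SymplecticGroup.neg_mem (Submonoid.one_mem _)⟩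

theorem negOne_mul (g : Sp4 F) : (negOne * g).1 = -g.1 := by
  simp [coe_mul, negOne]

theorem negOne_comm (g : Sp4 F) : negOne * g = g * negOne :=
  Subtype.ext (by simp [coe_mul, negOne])

/-- `g` or `-g` is a product of two conjugates of `x`. -/
def Good (x g : Sp4 F) : Prop := Two x g ∨ Two x (negOne * g)

theorem Good.conj {x g : Sp4 F} (h : Good x g) (k : Sp4 F) : Good x (k * g * k⁻¹) := by
  rcases h with h | h
  · exact Or.inl (h.conj k)
  · refine Or.inr ?_
    have e : negOne * (k * g * k⁻¹) = k * (negOne * g) * k⁻¹ := by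
      rw [← mul_assoc, ← mul_assoc, negOne_comm k, ← mul_assoc]
    rw [e]
    exact h.conj k

theorem Good.of_conj {x g : Sp4 F} (k : Sp4 F) (h : Good x (k⁻¹ * g * k)) : Good x g := by
  have := h.conj k
  simpa [mul_assoc] using this

/-- `L` as a homomorphism. -/
def LHom : Fˣ × Matrix.SpecialLinearGroup (Fin 2) F →* Sp4 F where
  toFun p := L p.1 p.2
  map_one' := L_one
  map_mul' p q := (L_mul p.1 q.1 p.2 q.2).symm

/-- The two parameters of the class. -/
structure Par (F : Type*) [Field F] where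
  a : Fˣ
  t : F
  ha : (a : F) ^ 2 ≠ 1
  ht : Irr t
  ht0 : t ≠ 0

/-- The representative of the class. -/
def Par.x (P : Par F) : Sp4 F := L P.a (comp P.t)

variable [Fintype F]

theorem Par.isConj_L (P : Par F) (a : Fˣ) (ha : a = P.a ∨ a = P.a⁻¹)
    (M : Matrix.SpecialLinearGroup (Fin 2) F) (hM : M 0 0 + M 1 1 = P.t) :
    IsConj P.x (L a M) := by
  have h1 : IsConj P.x (L P.a M) := by
    obtain ⟨k, hk⟩ := isConj_iff.1 (isConj_comp P.ht M hM)
    refine isConj_iff.2 ⟨L 1 k, ?_⟩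
    have e : LHom (((1 : Fˣ), k) * (P.a, comp P.t) * ((1 : Fˣ), k)⁻¹) = LHom (P.a, M) := by
      congr 1
      simp [hk]
    rw [map_mul, map_mul, map_inv] at e
    exact e
  rcases ha with rfl | rfl
  · exact h1
  · refine h1.trans (isConj_iff.2 ⟨W, ?_⟩)
    rw [mul_inv_eq_iff_eq_mul, W_conj]

theorem trace_inv (M : Matrix.SpecialLinearGroup (Fin 2) F) :
    M⁻¹ 0 0 + M⁻¹ 1 1 = M 0 0 + M 1 1 := by
  rw [Matrix.SpecialLinearGroup.coe_inv, Matrix.adjugate_fin_two]
  simp [add_comm]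

/-- The target blocks. -/
def Tgt (m : Matrix (Fin 2) (Fin 2) F) : Prop :=
  m = 1 ∨ (¬ (m 0 1 = 0 ∧ m 1 0 = 0 ∧ m 0 0 = m 1 1) ∧ m 0 0 + m 1 1 ≠ 2)

theorem Par.two_of (P : Par F) (N : Sp4 F) (a : Fˣ) (h00 : N.1 (.inl 0) (.inl 0) = a)
    (ha : a = 1 ∨ a = P.a * P.a) (hm : Tgt (schur N.1 a)) : Two P.x N := by
  obtain ⟨M, hM, hN⟩ := gauss N a h00
  obtain ⟨a₁, a₂, h1, h2, hmul⟩ : ∃ a₁ a₂ : Fˣ,
      (a₁ = P.a ∨ a₁ = P.a⁻¹) ∧ (a₂ = P.a ∨ a₂ = P.a⁻¹) ∧ a = a₁ * a₂ := by
    rcases ha with rfl | rfl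
    · exact ⟨P.a, P.a⁻¹, Or.inl rfl, Or.inr rfl, by simp⟩
    · exact ⟨P.a, P.a, Or.inl rfl, Or.inl rfl, rfl⟩
  obtain ⟨M₁, M₂, hM1, hM2, hMM⟩ : ∃ M₁ M₂ : Matrix.SpecialLinearGroup (Fin 2) F,
      M₁ 0 0 + M₁ 1 1 = P.t ∧ M₂ 0 0 + M₂ 1 1 = P.t ∧ M = M₁ * M₂ := by
    rw [← hM] at hm
    rcases hm with hm | ⟨hns, hs⟩
    · have hc : (comp P.t : Matrix.SpecialLinearGroup (Fin 2) F) 0 0 + comp P.t 1 1 = P.t := by
        simp [comp]
      refine ⟨comp P.t, (comp P.t)⁻¹, hc, by rw [trace_inv, hc], ?_⟩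
      rw [mul_inv_cancel]
      exact Subtype.ext hm
    · exact exists_split P.ht P.ht0 M hns hs
  have hsq : ∀ b : Fˣ, (b = P.a ∨ b = P.a⁻¹) → (b : F) ^ 2 ≠ 1 := by
    rintro b (rfl | rfl)
    · exact P.ha
    · simpa [inv_pow] using P.ha
  have hne : ∀ X : Matrix.SpecialLinearGroup (Fin 2) F, X 0 0 + X 1 1 = P.t → NoEig X := by
    intro X hX c
    rw [hX]
    exact P.ht c
  have key : ∀ x y z x' y' z' : F,
      Two P.x (Um x y z * (L a₁ M₁ * L a₂ M₂) * Up x' y' z') := fun x y z x' y' z' =>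
    ⟨Um x y z * L a₁ M₁, L a₂ M₂ * Up x' y' z',
      (P.isConj_L a₁ h1 M₁ hM1).trans (isConj_Um_L a₁ M₁ (hsq a₁ h1) (hne M₁ hM1) x y z),
      (P.isConj_L a₂ h2 M₂ hM2).trans (isConj_L_Up a₂ M₂ (hsq a₂ h2) (hne M₂ hM2) x' y' z'),
      by simp only [mul_assoc]⟩
  rw [hN, hmul, hMM, ← L_mul]
  exact key _ _ _ _ _ _

/-! ### Case A: some vector is not orthogonal to its image -/

theorem caseA_good (P : Par F) (N : Sp4 F) {c : F} (hc : c ≠ 0)
    (h00 : N.1 (.inl 0) (.inl 0) = 1) (h10 : N.1 (.inl 1) (.inl 0) = 0)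
    (h20 : N.1 (.inr 0) (.inl 0) = c) (h30 : N.1 (.inr 1) (.inl 0) = 0) : Good P.x N := by
  obtain ⟨e02, e13, e01, e03, e12, e23⟩ := rel_eqs N
  simp only [h00, h10, h20, h30] at e01 e03
  set n01 := N.1 (.inl 0) (.inl 1) with hn01
  set n03 := N.1 (.inl 0) (.inr 1) with hn03
  set n11 := N.1 (.inl 1) (.inl 1) with hn11
  set n13 := N.1 (.inl 1) (.inr 1) with hn13
  set n21 := N.1 (.inr 0) (.inl 1) with hn21
  set n23 := N.1 (.inr 0) (.inr 1) with hn23
  set n31 := N.1 (.inr 1) (.inl 1) with hn31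
  set n33 := N.1 (.inr 1) (.inr 1) with hn33
  have h21 : n21 = c * n01 := by linear_combination e01
  have h23 : n23 = c * n03 := by linear_combination e03
  have hdet : n11 * n33 - n31 * n13 = 1 := by
    rw [h21, h23] at e13
    linear_combination e13
  by_cases hns : n13 = 0 ∧ n31 = 0 ∧ n11 = n33
  · obtain ⟨z13, z31, zeq⟩ := hns
    have hk : (n11 - 1) * (n11 + 1) = 0 := by
      rw [z13, z31, ← zeq] at hdet
      linear_combination hdet
    rcases mul_eq_zero.1 hk with hk | hk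
    · refine Or.inl (P.two_of N 1 (by simp [h00]) (Or.inl rfl) (Or.inl ?_))
      have : n11 = 1 := sub_eq_zero.1 hk
      ext i j
      fin_cases i <;> fin_cases j <;>
        simp [schur, h10, h30, ← hn11, ← hn13, ← hn31, ← hn33, z13, z31, ← zeq, this]
    · have k1 : n11 = -1 := eq_neg_of_add_eq_zero_left hk
      refine Good.of_conj (Up 0 0 (2 / c)) (Or.inr (P.two_of _ 1 ?_ (Or.inl rfl) (Or.inl ?_)))
      · rw [negOne_mul, Up_inv]
        mat4
        rw [h00, h20]
        field_simp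
        ring
      · rw [negOne_mul, Up_inv]
        ext i j
        fin_cases i <;> fin_cases j <;>
          simp [schur, coe_mul, mk4, Up, Matrix.mul_apply, Fintype.sum_sum_type, Fin.sum_univ_two,
            h10, h30, ← hn11, ← hn13, ← hn31, ← hn33, z13, z31, ← zeq, k1]
  · obtain ⟨x, y, hq⟩ :
        ∃ x y : F, n31 * x ^ 2 + (n33 - n11) * x * y - n13 * y ^ 2 ≠ 0 := by
      by_contra! h
      have h1 := h 1 0
      have h2 := h 0 1
      have h3 := h 1 1
      simp at h1 h2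
      refine hns ⟨h2, h1, ?_⟩
      linear_combination -h3 + h1 - h2
    set q := n31 * x ^ 2 + (n33 - n11) * x * y - n13 * y ^ 2 with hqd
    set s := n11 + n33 with hs
    obtain ⟨l, hl2, hl2'⟩ : ∃ l : F, s - c * l ^ 2 * q ≠ 2 ∧ s - c * l ^ 2 * q ≠ -2 := by
      by_contra! h
      have hcq : c * q ≠ 0 := mul_ne_zero hc hq
      have inj : ∀ l m : F, s - c * l ^ 2 * q = s - c * m ^ 2 * q → l ^ 2 = m ^ 2 :=
        fun l m e => mul_left_cancel₀ hcq (by linear_combination -e)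
      have key : ∀ l : F, s - c * l ^ 2 * q = 2 ∨ s - c * l ^ 2 * q = -2 := fun l =>
        (em _).imp_right (h l)
      have h01 : ((0 : F) ^ 2 ≠ 1 ^ 2) := by simp
      have h0a : ((0 : F) ^ 2 ≠ (P.a : F) ^ 2) := fun e => P.a.ne_zero
        ((pow_eq_zero_iff two_ne_zero).1 (e.symm.trans (zero_pow two_ne_zero)))
      have h1a : ((1 : F) ^ 2 ≠ (P.a : F) ^ 2) := by simpa using P.ha.symm
      rcases key 0 with u | u <;> rcases key 1 with v | v <;> rcases key (P.a : F) with w | w <;>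
        first
          | exact h01 (inj _ _ (u.trans v.symm))
          | exact h0a (inj _ _ (u.trans w.symm))
          | exact h1a (inj _ _ (v.trans w.symm))
    refine Good.of_conj (Up (l * x) (l * y) 0) (Or.inl ?_)
    set N' := (Up (l * x) (l * y) 0)⁻¹ * N * Up (l * x) (l * y) 0 with hN'
    have hN'' : N' = Up (-(l * x)) (-(l * y)) (-0) * N * Up (l * x) (l * y) 0 := by
      rw [hN', Up_inv]
    have e00 : N'.1 (.inl 0) (.inl 0) = 1 := by
      rw [hN'']; mat4; rw [h00, h10, h30]; ring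
    have htr : schur N'.1 ((1 : Fˣ) : F) 0 0 + schur N'.1 ((1 : Fˣ) : F) 1 1 =
        s - c * l ^ 2 * q := by
      rw [hN'', hqd, hs]
      simp [schur, coe_mul, mk4, Up, Matrix.mul_apply, Fintype.sum_sum_type, Fin.sum_univ_two,
        h00, h10, h20, h30, ← hn01, ← hn03, ← hn11, ← hn13, ← hn21, ← hn23, ← hn31, ← hn33,
        h21, h23]
      ring
    obtain ⟨M, hM, -⟩ := gauss N' 1 (by simpa using e00)
    refine P.two_of N' 1 (by simpa using e00) (Or.inl rfl) (Or.inr ⟨?_, by rw [htr]; exact hl2⟩)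
    rintro ⟨z01, z10, zz⟩
    have hdM := M.det_coe
    rw [hM, Matrix.det_fin_two, z01, z10, ← zz] at hdM
    rw [← zz] at htr
    generalize schur N'.1 ((1 : Fˣ) : F) 0 0 = w at hdM htr
    have : (w - 1) * (w + 1) = 0 := by linear_combination hdM
    rcases mul_eq_zero.1 this with e | e
    · exact hl2 (by linear_combination -htr + 2 * e)
    · exact hl2' (by linear_combination -htr + 2 * e)

/-! ### Case B: every vector is orthogonal to its image -/

/-- Every vector is orthogonal to its image. -/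
def Alt (g : Matrix Idx Idx F) : Prop := ∀ v : Idx → F, om v (g *ᵥ v) = 0

theorem caseB_shape (N : Sp4 F) (hB : Alt N.1) {a : F} (ha : a ≠ 0)
    (h00 : N.1 (.inl 0) (.inl 0) = a) (h10 : N.1 (.inl 1) (.inl 0) = 1)
    (h20 : N.1 (.inr 0) (.inl 0) = 0) (h30 : N.1 (.inr 1) (.inl 0) = 0) :
    N.1 (.inr 0) (.inr 1) = 1 ∧ N.1 (.inr 1) (.inr 1) = -a ∧ N.1 (.inl 1) (.inr 1) = 0 ∧
      schur N.1 a = !![-a⁻¹, -(N.1 (.inl 0) (.inr 1) / a); 0, -a] := by
  have d1 := hB (Pi.single (.inl 1) 1)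
  have d3 := hB (Pi.single (.inr 1) 1)
  have p01 := hB (Pi.single (.inl 0) 1 + Pi.single (.inl 1) 1)
  have p02 := hB (Pi.single (.inl 0) 1 + Pi.single (.inr 0) 1)
  have p03 := hB (Pi.single (.inl 0) 1 + Pi.single (.inr 1) 1)
  have p13 := hB (Pi.single (.inl 1) 1 + Pi.single (.inr 1) 1)
  have d2 := hB (Pi.single (.inr 0) 1)
  simp [om, Matrix.mulVec_add, Matrix.mulVec_single_one] at d1 d2 d3 p01 p02 p03 p13
  obtain ⟨e02, e13, e01, e03, e12, e23⟩ := rel_eqs N
  have k21 : N.1 (.inr 0) (.inl 1) = 0 := by linear_combination p01 - h20 - d1 - h30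
  have k22 : N.1 (.inr 0) (.inr 0) = a := by linear_combination p02 - h20 + d2 + h00
  have k23 : N.1 (.inr 0) (.inr 1) = 1 := by linear_combination p03 - h20 + d3 + h10
  have k33 : N.1 (.inr 1) (.inr 1) = N.1 (.inl 1) (.inl 1) := by
    linear_combination p13 - d1 + d3
  simp only [h00, h10, h20, h30, k21, k22, k23, d1, d2, d3] at e02 e03 e01
  have k11 : N.1 (.inr 1) (.inr 1) = -a := by linear_combination e03
  have k32 : N.1 (.inr 1) (.inr 0) = N.1 (.inl 0) (.inl 1) := by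
    have p12 := hB (Pi.single (.inl 1) 1 + Pi.single (.inr 0) 1)
    simp [om, Matrix.mulVec_add, Matrix.mulVec_single_one] at p12
    linear_combination p12 - d1 + d2
  have k01 : N.1 (.inl 0) (.inl 1) = 1 - a ^ 2 := by
    rw [k32] at e02
    linear_combination e02
  refine ⟨k23, k11, d3, ?_⟩
  have k11' : N.1 (.inl 1) (.inl 1) = -a := by rw [← k33, k11]
  ext i j
  fin_cases i <;> fin_cases j <;> simp [schur, h10, h30, d1, d3, k11, k11', k01]
  · field_simp
    ring

theorem Alt.conj {g : Sp4 F} (hg : Alt g.1) (k : Sp4 F) : Alt (k⁻¹ * g * k).1 := by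
  intro v
  have hom : ∀ x y : Idx → F, om (k.1 *ᵥ x) (k.1 *ᵥ y) = om x y := by
    intro x y
    obtain ⟨e02, e13, e01, e03, e12, e23⟩ := rel_eqs k
    simp [om, Matrix.mulVec, dotProduct, Fintype.sum_sum_type, Fin.sum_univ_two]
    linear_combination (x (.inl 0) * y (.inr 0) - x (.inr 0) * y (.inl 0)) * e02 +
      (x (.inl 1) * y (.inr 1) - x (.inr 1) * y (.inl 1)) * e13 +
      (x (.inl 0) * y (.inl 1) - x (.inl 1) * y (.inl 0)) * e01 +
      (x (.inl 0) * y (.inr 1) - x (.inr 1) * y (.inl 0)) * e03 +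
      (x (.inl 1) * y (.inr 0) - x (.inr 0) * y (.inl 1)) * e12 +
      (x (.inr 0) * y (.inr 1) - x (.inr 1) * y (.inr 0)) * e23
  rw [← hom, Matrix.mulVec_mulVec, ← coe_mul, mul_assoc, mul_inv_cancel_left, coe_mul,
    ← Matrix.mulVec_mulVec]
  exact hg _

theorem caseB_odd (P : Par F) (N : Sp4 F) (hB : Alt N.1) (h2 : (2 : F) ≠ 0)
    (h00 : N.1 (.inl 0) (.inl 0) = 1) (h10 : N.1 (.inl 1) (.inl 0) = 1)
    (h20 : N.1 (.inr 0) (.inl 0) = 0) (h30 : N.1 (.inr 1) (.inl 0) = 0)
    (hm : N.1 (.inl 0) (.inr 1) ≠ 0) : Two P.x N := by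
  obtain ⟨-, -, -, hs⟩ := caseB_shape N hB one_ne_zero h00 h10 h20 h30
  refine P.two_of N 1 (by simpa using h00) (Or.inl rfl) (Or.inr ?_)
  rw [Units.val_one, hs]
  refine ⟨fun h => hm (by simpa using h.1), fun h => h2 ?_⟩
  have h4 : (2 : F) * 2 = 0 := by
    simp at h
    linear_combination -h
  exact mul_self_eq_zero.1 h4

theorem caseB_good (P : Par F) (N : Sp4 F) (hB : Alt N.1) (a : Fˣ)
    (ha : ((2 : F) ≠ 0 ∧ a = 1) ∨ ((2 : F) = 0 ∧ a = P.a * P.a))
    (h00 : N.1 (.inl 0) (.inl 0) = a) (h10 : N.1 (.inl 1) (.inl 0) = 1)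
    (h20 : N.1 (.inr 0) (.inl 0) = 0) (h30 : N.1 (.inr 1) (.inl 0) = 0) : Good P.x N := by
  rcases ha with ⟨h2, rfl⟩ | ⟨h2, rfl⟩
  · rw [Units.val_one] at h00
    by_cases hm : N.1 (.inl 0) (.inr 1) = 0
    · obtain ⟨k23, k33, k13, -⟩ := caseB_shape N hB one_ne_zero h00 h10 h20 h30
      refine Good.of_conj (Up 1 0 0) (Or.inl (caseB_odd P _ (hB.conj _) h2 ?_ ?_ ?_ ?_ ?_))
      all_goals rw [Up_inv]; mat4; simp [h00, h10, h20, h30, hm, k23, k33, k13]
      · norm_num
        exact h2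
    · exact Or.inl (caseB_odd P N hB h2 h00 h10 h20 h30 hm)
  · refine Or.inl (P.two_of N _ h00 (Or.inr rfl) (Or.inr ?_))
    obtain ⟨-, -, -, hs⟩ := caseB_shape N hB (P.a * P.a).ne_zero h00 h10 h20 h30
    rw [hs, Units.val_mul]
    have ha0 : (P.a : F) * P.a ≠ 0 := mul_ne_zero P.a.ne_zero P.a.ne_zero
    have key : -((P.a : F) * P.a)⁻¹ + -((P.a : F) * P.a) ≠ 0 := by
      intro h
      field_simp at h
      have : ((P.a : F) * P.a - 1) * ((P.a : F) * P.a - 1) = 0 := by
        linear_combination -h - (P.a : F) * P.a * h2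
      refine P.ha ?_
      linear_combination sub_eq_zero.1 (mul_self_eq_zero.1 this)
    refine ⟨fun h => key ?_, fun h => key ?_⟩
    · have h11 := h.2.2
      simp at h11 ⊢
      linear_combination h11 - ((P.a : F)⁻¹) ^ 2 * h2
    · simp at h ⊢
      linear_combination h + h2

/-! ### Frames -/

theorem om_add_right (x y z : Idx → F) : om x (y + z) = om x y + om x z := by simp [om]; ring

theorem om_smul_right (x y : Idx → F) (k : F) : om x (k • y) = k * om x y := by simp [om]; ring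

theorem om_sub_right (x y z : Idx → F) : om x (y - z) = om x y - om x z := by simp [om]; ring

theorem om_self (x : Idx → F) : om x x = 0 := by simp [om]; ring

theorem om_swap (x y : Idx → F) : om y x = - om x y := by simp [om]; ring

/-- `om x` as a linear form. -/
def omL (x : Idx → F) : (Idx → F) →ₗ[F] F where
  toFun := om x
  map_add' := om_add_right x
  map_smul' k y := om_smul_right x y k

theorem exists_om_eq_one {w : Idx → F} (hw : w ≠ 0) : ∃ v, om w v = 1 := by
  obtain ⟨v, hv⟩ : ∃ v, om w v ≠ 0 := by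
    by_contra! h
    apply hw
    have e0 := h (Pi.single (.inr 0) 1)
    have e1 := h (Pi.single (.inr 1) 1)
    have e2 := h (Pi.single (.inl 0) 1)
    have e3 := h (Pi.single (.inl 1) 1)
    simp [om] at e0 e1 e2 e3
    funext i
    rcases i with i | i <;> fin_cases i <;> simp [e0, e1, e2, e3]
  exact ⟨(om w v)⁻¹ • v, by rw [om_smul_right, inv_mul_cancel₀ hv]⟩

theorem exists_orth (e f : Idx → F) : ∃ w, w ≠ 0 ∧ om e w = 0 ∧ om f w = 0 := by
  have : LinearMap.ker ((omL e).prod (omL f)) ≠ ⊥ :=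
    LinearMap.ker_ne_bot_of_finrank_lt (by simp [Module.finrank_prod])
  obtain ⟨w, hw, hw0⟩ := Submodule.exists_mem_ne_zero_of_ne_bot this
  rw [LinearMap.mem_ker, LinearMap.prod_apply] at hw
  exact ⟨w, hw0, congrArg Prod.fst hw, congrArg Prod.snd hw⟩

theorem exists_basis {e f w : Idx → F} (hef : om e f = 1) (hew : om e w = 0) (hfw : om f w = 0)
    (hw : w ≠ 0) : ∃ k : Sp4 F, (∀ i, k.1 i (.inl 0) = e i) ∧ (∀ i, k.1 i (.inl 1) = w i) ∧
      ∀ i, k.1 i (.inr 0) = f i := by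
  obtain ⟨v, hv⟩ := exists_om_eq_one hw
  set u := v - om v f • e + om v e • f with hu
  have hwu : om w u = 1 := by
    rw [hu, om_add_right, om_sub_right, om_smul_right, om_smul_right, om_swap e w, om_swap f w,
      hew, hfw, hv]
    ring
  have heu : om e u = 0 := by
    rw [hu, om_add_right, om_sub_right, om_smul_right, om_smul_right, om_self, hef, om_swap v e]
    ring
  have hfu : om f u = 0 := by
    rw [hu, om_add_right, om_sub_right, om_smul_right, om_smul_right, om_self, om_swap e f, hef,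
      om_swap v f]
    ring
  let K : Matrix Idx Idx F := fun i j => match j with
    | .inl j => ![e i, w i] j
    | .inr j => ![f i, u i] j
  refine ⟨⟨K, mem_of_rel ⟨hef, hwu, hew, heu, ?_, hfu⟩⟩, fun _ => rfl, fun _ => rfl, fun _ => rfl⟩
  change om w f = 0
  rw [om_swap f w, hfw, neg_zero]

/-- A conjugate with prescribed first column. -/
theorem col_conj (g k : Sp4 F) {e v : Idx → F} (he : ∀ i, k.1 i (.inl 0) = e i)
    (hv : g.1 *ᵥ e = k.1 *ᵥ v) (i : Idx) : (k⁻¹ * g * k).1 i (.inl 0) = v i := by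
  have he' : k.1 *ᵥ Pi.single (.inl 0) 1 = e := by
    rw [Matrix.mulVec_single_one]; exact funext he
  have h : (k⁻¹ * g * k).1 *ᵥ Pi.single (.inl 0) 1 = v := by
    rw [coe_mul, coe_mul, ← Matrix.mulVec_mulVec, ← Matrix.mulVec_mulVec, he', hv,
      Matrix.mulVec_mulVec, ← coe_mul, inv_mul_cancel, coe_one, Matrix.one_mulVec]
  rw [Matrix.mulVec_single_one] at h
  exact congrFun h i

theorem mem_center_of_scalar (g : Sp4 F) (h : ∀ v, ∃ k : F, g.1 *ᵥ v = k • v) :
    g ∈ Subgroup.center (Sp4 F) := by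
  obtain ⟨c, hc⟩ : ∃ c : F, ∀ j, g.1 *ᵥ Pi.single j 1 = c • Pi.single j 1 := by
    obtain ⟨c, hc⟩ := h (Pi.single (.inl 0) 1)
    refine ⟨c, fun j => ?_⟩
    obtain ⟨d, hd⟩ := h (Pi.single j 1)
    by_cases hj : j = .inl 0
    · rw [hj]; exact hc
    · obtain ⟨b, hb⟩ := h (Pi.single (.inl 0) 1 + Pi.single j 1)
      rw [Matrix.mulVec_add, hc, hd] at hb
      have e1 := congrFun hb (.inl 0)
      have e2 := congrFun hb j
      simp [Pi.single_eq_of_ne hj, Pi.single_eq_of_ne (Ne.symm hj)] at e1 e2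
      rw [hd, e2, ← e1]
  have hg : g.1 = c • 1 := by
    ext i j
    have := congrFun (hc j) i
    rw [Matrix.mulVec_single_one] at this
    simpa [Matrix.one_apply, Pi.single_apply] using this
  rw [Subgroup.mem_center_iff]
  intro k
  apply Subtype.ext
  rw [coe_mul, coe_mul, hg]
  simp

/-- A noncentral element has one of two first columns after conjugation. -/
theorem good_of_frames {x : Sp4 F} (g : Sp4 F) (hg : g ∉ Subgroup.center (Sp4 F)) (a : Fˣ)
    (HA : ∀ (N : Sp4 F) (c : F), c ≠ 0 → N.1 (.inl 0) (.inl 0) = 1 →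
      N.1 (.inl 1) (.inl 0) = 0 → N.1 (.inr 0) (.inl 0) = c → N.1 (.inr 1) (.inl 0) = 0 → Good x N)
    (HB : ∀ N : Sp4 F, Alt N.1 → N.1 (.inl 0) (.inl 0) = a → N.1 (.inl 1) (.inl 0) = 1 →
      N.1 (.inr 0) (.inl 0) = 0 → N.1 (.inr 1) (.inl 0) = 0 → Good x N) : Good x g := by
  by_cases hA : ∃ e, om e (g.1 *ᵥ e) ≠ 0
  · obtain ⟨e, he⟩ := hA
    set c := om e (g.1 *ᵥ e) with hc
    set f := c⁻¹ • (g.1 *ᵥ e - e) with hf
    have hef : om e f = 1 := by
      rw [hf, om_smul_right, om_sub_right, om_self, sub_zero, ← hc, inv_mul_cancel₀ he]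
    obtain ⟨w, hw, hew, hfw⟩ := exists_orth e f
    obtain ⟨k, ke, -, kf⟩ := exists_basis hef hew hfw hw
    refine Good.of_conj k ?_
    have hv : g.1 *ᵥ e = k.1 *ᵥ (Pi.single (.inl 0) 1 + c • Pi.single (.inr 0) 1) := by
      rw [Matrix.mulVec_add, Matrix.mulVec_smul, Matrix.mulVec_single_one,
        Matrix.mulVec_single_one]
      funext i
      simp [Matrix.col, ke, kf, hf, mul_inv_cancel_left₀ he]
    exact HA _ _ he (by rw [col_conj g k ke hv]; simp) (by rw [col_conj g k ke hv]; simp)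
      (by rw [col_conj g k ke hv]; simp) (by rw [col_conj g k ke hv]; simp)
  · push Not at hA
    obtain ⟨e, he⟩ : ∃ e, ∀ k : F, g.1 *ᵥ e ≠ k • e := by
      by_contra! h
      exact hg (mem_center_of_scalar g h)
    set w := g.1 *ᵥ e - (a : F) • e with hwd
    have hw : w ≠ 0 := fun h => he a (sub_eq_zero.1 h)
    have hew : om e w = 0 := by
      rw [hwd, om_sub_right, om_smul_right, om_self, hA e]
      ring
    obtain ⟨f, hef, hwf⟩ : ∃ f, om e f = 1 ∧ om w f = 0 := by
      have he0 : e ≠ 0 := fun h => he 0 (by simp [h])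
      obtain ⟨u, hu⟩ := exists_om_eq_one he0
      by_cases h : ∃ v, om e v = 0 ∧ om w v ≠ 0
      · obtain ⟨v, hev, hwv⟩ := h
        refine ⟨u - (om w u / om w v) • v, ?_, ?_⟩
        · rw [om_sub_right, om_smul_right, hev, hu]; ring
        · rw [om_sub_right, om_smul_right, div_mul_cancel₀ _ hwv, sub_self]
      · push Not at h
        exfalso
        have hz : ∀ s, om (w - om w u • e) s = 0 := by
          intro s
          have := h (s - om e s • u) (by rw [om_sub_right, om_smul_right, hu]; ring)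
          rw [om_sub_right, om_smul_right] at this
          have e' : om (w - om w u • e) s = om w s - om w u * om e s := by simp [om]; ring
          rw [e', ← this]
          ring
        have : w - om w u • e = 0 := by
          by_contra hne
          obtain ⟨s, hs⟩ := exists_om_eq_one hne
          rw [hz s] at hs
          exact zero_ne_one hs
        refine he (om w u + (a : F)) ?_
        rw [hwd, sub_sub, ← add_smul, sub_eq_zero] at this
        rw [this, add_comm]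
    obtain ⟨k, ke, kw, -⟩ := exists_basis hef hew (by rw [om_swap w f, hwf, neg_zero]) hw
    refine Good.of_conj k ?_
    have hv : g.1 *ᵥ e = k.1 *ᵥ ((a : F) • Pi.single (.inl 0) 1 + Pi.single (.inl 1) 1) := by
      rw [Matrix.mulVec_add, Matrix.mulVec_smul, Matrix.mulVec_single_one,
        Matrix.mulVec_single_one]
      funext i
      simp [Matrix.col, ke, kw, hwd]
    exact HB _ (Alt.conj hA k) (by rw [col_conj g k ke hv]; simp)
      (by rw [col_conj g k ke hv]; simp) (by rw [col_conj g k ke hv]; simp)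
      (by rw [col_conj g k ke hv]; simp)

/-- Every noncentral element is good. -/
theorem Par.good (P : Par F) (g : Sp4 F) (hg : g ∉ Subgroup.center (Sp4 F)) : Good P.x g := by
  obtain ⟨a, ha⟩ : ∃ a : Fˣ,
      ((2 : F) ≠ 0 ∧ a = 1) ∨ ((2 : F) = 0 ∧ a = P.a * P.a) := by
    by_cases h2 : (2 : F) = 0
    · exact ⟨_, Or.inr ⟨h2, rfl⟩⟩
    · exact ⟨_, Or.inl ⟨h2, rfl⟩⟩
  exact good_of_frames g hg a (fun N _ hc => caseA_good P N hc)
    fun N hB => caseB_good P N hB a ha

/-! ### The order of the representative -/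

theorem comp_pow_entries (t : F) (n : ℕ) :
    ∃ α β : F, ((comp t : Matrix.SpecialLinearGroup (Fin 2) F) : Matrix (Fin 2) (Fin 2) F) ^ n =
      !![α, -β; β, α + β * t] := by
  induction n with
  | zero => exact ⟨1, 0, by ext i j; fin_cases i <;> fin_cases j <;> simp⟩
  | succ n ih =>
    obtain ⟨α, β, h⟩ := ih
    refine ⟨-β, α + β * t, ?_⟩
    rw [pow_succ, h]
    ext i j
    fin_cases i <;> fin_cases j <;> simp [comp, Matrix.mul_apply, Fin.sum_univ_two] <;> ring

theorem Par.not_dvd_orderOf (P : Par F) (p : ℕ) [Fact p.Prime] [CharP F p] :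
    ¬ p ∣ orderOf P.x := by
  intro hdvd
  have hpp : p.Prime := Fact.out
  obtain ⟨m, hm⟩ := hdvd
  have hfin : IsOfFinOrder P.x := isOfFinOrder_of_finite _
  have hm0 : 0 < m := by
    rcases Nat.eq_zero_or_pos m with rfl | h
    · exact absurd hm (by simpa using hfin.orderOf_pos.ne')
    · exact h
  have hlt : m < orderOf P.x := by
    rw [hm]
    exact lt_mul_of_one_lt_left hm0 hpp.one_lt
  refine pow_ne_one_of_lt_orderOf hm0.ne' hlt ?_
  have hpow : P.x ^ m = L (P.a ^ m) (comp P.t ^ m) :=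
    (map_pow LHom (P.a, comp P.t) m).symm
  have h1 : L (P.a ^ (m * p)) (comp P.t ^ (m * p)) = 1 := by
    have e : P.x ^ (m * p) = L (P.a ^ (m * p)) (comp P.t ^ (m * p)) :=
      (map_pow LHom (P.a, comp P.t) (m * p)).symm
    rw [← e, mul_comm, ← hm, pow_orderOf_eq_one]
  rw [hpow]
  suffices h : P.a ^ m = 1 ∧ comp P.t ^ m = 1 by rw [h.1, h.2, L_one]
  constructor
  · ext
    have := congrArg (fun g : Sp4 F => g.1 (.inl 0) (.inl 0)) h1
    simp [L, mk4, coe_one] at this
    rw [pow_mul] at this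
    have h : ((P.a : F) ^ m - 1) ^ p = 0 := by rw [sub_pow_char, this, one_pow, sub_self]
    simpa [sub_eq_zero] using pow_eq_zero_iff hpp.ne_zero |>.1 h
  · apply Subtype.ext
    have hM : ((comp P.t : Matrix.SpecialLinearGroup (Fin 2) F) :
        Matrix (Fin 2) (Fin 2) F) ^ (m * p) = 1 := by
      rw [← Matrix.SpecialLinearGroup.coe_pow]
      ext i j
      have e00 := congrArg (fun g : Sp4 F => g.1 (.inl 1) (.inl 1)) h1
      have e01 := congrArg (fun g : Sp4 F => g.1 (.inl 1) (.inr 1)) h1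
      have e10 := congrArg (fun g : Sp4 F => g.1 (.inr 1) (.inl 1)) h1
      have e11 := congrArg (fun g : Sp4 F => g.1 (.inr 1) (.inr 1)) h1
      simp [L, mk4, coe_one] at e00 e01 e10 e11
      fin_cases i <;> fin_cases j <;> simpa
    rw [Matrix.SpecialLinearGroup.coe_pow, Matrix.SpecialLinearGroup.coe_one]
    obtain ⟨α, β, hαβ⟩ := comp_pow_entries P.t m
    rw [pow_mul, hαβ] at hM
    rw [hαβ]
    have hd : (!![α, -β; β, α + β * P.t] - 1 : Matrix (Fin 2) (Fin 2) F).det = 0 := by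
      have h : (!![α, -β; β, α + β * P.t] - 1 : Matrix (Fin 2) (Fin 2) F) ^ p = 0 := by
        rw [sub_pow_char_of_commute p (Commute.one_right _), hM, one_pow, sub_self]
      have := congrArg Matrix.det h
      rw [Matrix.det_pow, Matrix.det_zero] at this
      exact (pow_eq_zero_iff hpp.ne_zero).1 this
    simp [Matrix.det_fin_two] at hd
    have hβ : β = 0 := by
      by_contra hb
      refine P.ht (-(α - 1) / β) ?_
      field_simp
      linear_combination hd
    subst hβ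
    simp [sub_eq_zero] at hd
    subst hd
    ext i j
    fin_cases i <;> fin_cases j <;> simp

theorem exists_par (hq : 4 ≤ Fintype.card F) : Nonempty (Par F) := by
  classical
  obtain ⟨t, ht0, ht⟩ := exists_irr hq
  obtain ⟨a, ha0, ha⟩ : ∃ a : F, a ≠ 0 ∧ a ^ 2 ≠ 1 := by
    by_contra! h
    have hsub : (Finset.univ : Finset F) ⊆ {0, 1, -1} := by
      intro x _
      by_cases hx : x = 0
      · simp [hx]
      · rcases sq_eq_one_iff.1 (h x hx) with e | e <;> simp [e]
    have := (Finset.card_le_card hsub).trans Finset.card_le_three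
    simp at this
    omega
  exact ⟨⟨Units.mk0 a ha0, t, ha, ht, ht0⟩⟩

/-- From `Sp₄` to the quotient by the centre. -/
theorem quot_cover (p : ℕ) (x : Sp4 F) (hord : ¬ p ∣ orderOf x)
    (hgood : ∀ g, g ∉ Subgroup.center (Sp4 F) → Good x g) :
    ∃ x : Sp4 F ⧸ Subgroup.center (Sp4 F), ¬ p ∣ orderOf x ∧
      ∀ g : Sp4 F ⧸ Subgroup.center (Sp4 F),
      g ≠ 1 → ∃ u v : Sp4 F ⧸ Subgroup.center (Sp4 F),
        g = (u * x * u⁻¹) * (v * x * v⁻¹) := by
  refine ⟨QuotientGroup.mk x, fun h => hord ?_, fun g hg => ?_⟩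
  · exact h.trans (orderOf_map_dvd (QuotientGroup.mk' (Subgroup.center (Sp4 F))) x)
  obtain ⟨g, rfl⟩ := QuotientGroup.mk_surjective g
  have hgc : g ∉ Subgroup.center (Sp4 F) := fun h => hg ((QuotientGroup.eq_one_iff g).2 h)
  have hn : (QuotientGroup.mk (negOne : Sp4 F) : Sp4 F ⧸ Subgroup.center (Sp4 F)) = 1 :=
    (QuotientGroup.eq_one_iff _).2 (Subgroup.mem_center_iff.2 fun k => (negOne_comm k).symm)
  have key : ∀ h : Sp4 F, Two x h → ∃ u v : Sp4 F ⧸ Subgroup.center (Sp4 F),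
      (QuotientGroup.mk h : Sp4 F ⧸ Subgroup.center (Sp4 F)) =
        (u * QuotientGroup.mk x * u⁻¹) * (v * QuotientGroup.mk x * v⁻¹) := by
    rintro h ⟨u, v, hu, hv, rfl⟩
    obtain ⟨k, rfl⟩ := isConj_iff.1 hu
    obtain ⟨l, rfl⟩ := isConj_iff.1 hv
    exact ⟨QuotientGroup.mk k, QuotientGroup.mk l, rfl⟩
  rcases hgood g hgc with h | h
  · exact key g h
  · obtain ⟨u, v, e⟩ := key _ h
    refine ⟨u, v, ?_⟩
    rw [QuotientGroup.mk_mul, hn, one_mul] at e
    exact e


/-- The theorem for `q ≥ 4`. -/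
theorem square_cover (p : ℕ) [Fact p.Prime] [CharP F p] (hq : 4 ≤ Fintype.card F) :
    ∃ x : Sp4 F ⧸ Subgroup.center (Sp4 F), ¬ p ∣ orderOf x ∧
      ∀ g : Sp4 F ⧸ Subgroup.center (Sp4 F),
      g ≠ 1 → ∃ u v : Sp4 F ⧸ Subgroup.center (Sp4 F),
        g = (u * x * u⁻¹) * (v * x * v⁻¹) := by
  obtain ⟨P⟩ := exists_par hq
  exact quot_cover p P.x (P.not_dvd_orderOf p) P.good

end Cfsg.Agent.SpSquare
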