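import Cfsg.Agent.SpSquare.Main
import Cfsg.Agent.SpSquare.ThreeData

/-!
`PSp₄(3)`: the class of an element of order five squares to every nontrivial element, checked on
the normal forms of the two first columns.
-/

set_option autoImplicit false
set_option linter.unusedTactic false
set_option linter.unreachableTactic false
set_option linter.unusedSimpArgs false
set_option linter.unusedSectionVars false

namespace Cfsg.Agent.SpSquare.Three

open Matrix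

/-- Four residues. -/
structure R4 where
  a : ℕ
  b : ℕ
  c : ℕ
  d : ℕ
deriving DecidableEq

/-- A `4 × 4` matrix of residues. -/
structure Q where
  r : R4
  s : R4
  u : R4
  v : R4
deriving DecidableEq

def row (x : R4) (B : Q) : R4 :=
  ⟨(x.a * B.r.a + x.b * B.s.a + x.c * B.u.a + x.d * B.v.a) % 3,
   (x.a * B.r.b + x.b * B.s.b + x.c * B.u.b + x.d * B.v.b) % 3,
   (x.a * B.r.c + x.b * B.s.c + x.c * B.u.c + x.d * B.v.c) % 3,
   (x.a * B.r.d + x.b * B.s.d + x.c * B.u.d + x.d * B.v.d) % 3⟩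

def mul (A B : Q) : Q := ⟨row A.r B, row A.s B, row A.u B, row A.v B⟩

def R4.neg (x : R4) : R4 := ⟨2 * x.a % 3, 2 * x.b % 3, 2 * x.c % 3, 2 * x.d % 3⟩

def neg (A : Q) : Q := ⟨A.r.neg, A.s.neg, A.u.neg, A.v.neg⟩

def dg (c i : ℕ) : ℕ := c / 3 ^ i % 3

/-- Decoding. -/
def dec (c : ℕ) : Q :=
  ⟨⟨dg c 0, dg c 1, dg c 2, dg c 3⟩, ⟨dg c 4, dg c 5, dg c 6, dg c 7⟩,
   ⟨dg c 8, dg c 9, dg c 10, dg c 11⟩, ⟨dg c 12, dg c 13, dg c 14, dg c 15⟩⟩

/-- The form, with `2 = -1`. -/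
def omN (xa xb xc xd ya yb yc yd : ℕ) : ℕ :=
  (xa * yc + 2 * (xc * ya) + (xb * yd + 2 * (xd * yb))) % 3

def isSp (A : Q) : Bool :=
  omN A.r.a A.s.a A.u.a A.v.a A.r.c A.s.c A.u.c A.v.c == 1 &&
  omN A.r.b A.s.b A.u.b A.v.b A.r.d A.s.d A.u.d A.v.d == 1 &&
  omN A.r.a A.s.a A.u.a A.v.a A.r.b A.s.b A.u.b A.v.b == 0 &&
  omN A.r.a A.s.a A.u.a A.v.a A.r.d A.s.d A.u.d A.v.d == 0 &&
  omN A.r.b A.s.b A.u.b A.v.b A.r.c A.s.c A.u.c A.v.c == 0 &&
  omN A.r.c A.s.c A.u.c A.v.c A.r.d A.s.d A.u.d A.v.d == 0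

def one : Q := ⟨⟨1, 0, 0, 0⟩, ⟨0, 1, 0, 0⟩, ⟨0, 0, 1, 0⟩, ⟨0, 0, 0, 1⟩⟩

def upN (x y z : ℕ) : Q :=
  ⟨⟨1, 2 * y % 3, z, x⟩, ⟨0, 1, x, 0⟩, ⟨0, 0, 1, 0⟩, ⟨0, 0, y, 1⟩⟩

def umN (x z : ℕ) : Q :=
  ⟨⟨1, 0, 0, 0⟩, ⟨x, 1, 0, 0⟩, ⟨z, 0, 1, 2 * x % 3⟩, ⟨0, 0, 0, 1⟩⟩

def lN (M : ℕ × ℕ × ℕ × ℕ) : Q :=
  ⟨⟨1, 0, 0, 0⟩, ⟨0, M.1, 0, M.2.1⟩, ⟨0, 0, 1, 0⟩, ⟨0, M.2.2.1, 0, M.2.2.2⟩⟩

/-- The representative. -/
def xN : Q := dec x0c

/-- `(l x) = (k x⁻¹ k⁻¹) (±N) l` written without inverses. -/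
def chkN (N : Q) (code : ℕ) : Bool :=
  let l := dec (code / 2 / 64)
  let i := code / 2 % 64
  let k := dec (selc.getD i 0)
  let T := if code % 2 = 0 then N else neg N
  isSp l && isSp k &&
    decide (mul T l = mul (mul (mul k xN)
      (let a := k; -- symplectic inverse of `k`
       ⟨⟨a.u.c, a.v.c, 2 * a.r.c % 3, 2 * a.s.c % 3⟩,
        ⟨a.u.d, a.v.d, 2 * a.r.d % 3, 2 * a.s.d % 3⟩,
        ⟨2 * a.u.a % 3, 2 * a.v.a % 3, a.r.a, a.s.a⟩,
        ⟨2 * a.u.b % 3, 2 * a.v.b % 3, a.r.b, a.s.b⟩⟩)) (mul l xN))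

/-- The elements of `SL₂(3)`. -/
def ms : List (ℕ × ℕ × ℕ × ℕ) := [
  (0,1,2,0), (0,1,2,1), (0,1,2,2), (0,2,1,0), (0,2,1,1), (0,2,1,2), (1,0,0,1), (1,0,1,1),
  (1,0,2,1), (1,1,0,1), (1,1,1,2), (1,1,2,0), (1,2,0,1), (1,2,1,0), (1,2,2,2), (2,0,0,2),
  (2,0,1,2), (2,0,2,2), (2,1,0,2), (2,1,1,1), (2,1,2,0), (2,2,0,2), (2,2,1,0), (2,2,2,1)]

def chkFam (x z : ℕ) (w : List (List ℕ)) : Bool :=
  (List.range 24).all fun i =>
    let A := mul (umN x z) (lN (ms.getD i (0, 0, 0, 0)))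
    let r := w.getD i []
    (List.range 27).all fun j => chkN (mul A (upN (j / 9) (j / 3 % 3) (j % 3))) (r.getD j 0)

set_option maxRecDepth 100000 in
theorem fam0_ok : chkFam 0 1 wit0 = true := by decide +kernel

set_option maxRecDepth 100000 in
theorem fam1_ok : chkFam 0 2 wit1 = true := by decide +kernel

set_option maxRecDepth 100000 in
theorem fam2_ok : chkFam 1 0 wit2 = true := by decide +kernel

theorem x_ok : isSp xN = true ∧ mul (mul (mul (mul xN xN) xN) xN) xN = one := by decide +kernel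

theorem ms_complete : ∀ a : Fin 3, ∀ b : Fin 3, ∀ c : Fin 3, ∀ d : Fin 3,
    (a.1 * d.1 + 2 * (b.1 * c.1)) % 3 = 1 →
      ∃ i : Fin 24, ms.getD i.1 (0, 0, 0, 0) = (a.1, b.1, c.1, d.1) := by decide +kernel

variable {F : Type*} [Field F]

/-- The matrix over a field of characteristic three. -/
def φ (A : Q) : Matrix Idx Idx F :=
  mk4 A.r.a A.r.b A.r.c A.r.d A.s.a A.s.b A.s.c A.s.d A.u.a A.u.b A.u.c A.u.d
    A.v.a A.v.b A.v.c A.v.d

variable [CharP F 3]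

theorem cast_mod (n : ℕ) : ((n % 3 : ℕ) : F) = (n : F) :=
  ((CharP.natCast_eq_natCast F 3).2 (Nat.mod_modEq n 3))

theorem three_eq : (3 : F) = 0 := by exact_mod_cast CharP.cast_eq_zero F 3

theorem two_mul_eq (v : F) : 2 * v = -v := by linear_combination v * (three_eq (F := F))

theorem φ_mul (A B : Q) : (φ (mul A B) : Matrix Idx Idx F) = φ A * φ B := by
  ext i j
  rcases i with i | i <;> rcases j with j | j <;> fin_cases i <;> fin_cases j <;>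
    simp [φ, mul, row, mk4, cast_mod, Matrix.mul_apply, Fintype.sum_sum_type,
      Fin.sum_univ_two] <;> ring

theorem φ_neg (A : Q) : (φ (neg A) : Matrix Idx Idx F) = -φ A := by
  ext i j
  rcases i with i | i <;> rcases j with j | j <;> fin_cases i <;> fin_cases j <;>
    simp [φ, neg, R4.neg, mk4, cast_mod, two_mul_eq]

theorem φ_one : (φ one : Matrix Idx Idx F) = 1 := by
  ext i j
  rcases i with i | i <;> rcases j with j | j <;> fin_cases i <;> fin_cases j <;>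
    simp [φ, one, mk4]

theorem φ_mem (A : Q) (h : isSp A = true) :
    (φ A : Matrix Idx Idx F) ∈ symplecticGroup (Fin 2) F := by
  simp only [isSp, Bool.and_eq_true, beq_iff_eq] at h
  obtain ⟨⟨⟨⟨⟨h02, h13⟩, h01⟩, h03⟩, h12⟩, h23⟩ := h
  have key : ∀ {xa xb xc xd ya yb yc yd r : ℕ}, omN xa xb xc xd ya yb yc yd = r →
      (xa : F) * yc - xc * ya + ((xb : F) * yd - xd * yb) = r := by
    intro xa xb xc xd ya yb yc yd r h
    rw [← h, omN, cast_mod]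
    push_cast
    linear_combination -((xc : F) * ya + xd * yb) * (three_eq (F := F))
  refine mem_of_rel ⟨?_, ?_, ?_, ?_, ?_, ?_⟩
  all_goals simp only [om, φ, mk4, Matrix.fromBlocks_apply₁₁, Matrix.fromBlocks_apply₁₂,
    Matrix.fromBlocks_apply₂₁, Matrix.fromBlocks_apply₂₂]
  · simpa using key h02
  · simpa using key h13
  · simpa using key h01
  · simpa using key h03
  · simpa using key h12
  · simpa using key h23

/-- The representative in `Sp₄`. -/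
def xF : Sp4 F := ⟨φ xN, φ_mem _ x_ok.1⟩

theorem xF_pow : (xF : Sp4 F) ^ 5 = 1 := by
  apply Subtype.ext
  simp only [pow_succ, pow_zero, one_mul, coe_mul, xF, coe_one]
  rw [← φ_mul, ← φ_mul, ← φ_mul, ← φ_mul, x_ok.2, φ_one]

variable [Fintype F]

theorem exists_rep (hc : Fintype.card F = 3) (v : F) : ∃ n : Fin 3, (n.1 : F) = v := by
  have hb : Function.Bijective (ZMod.castHom (dvd_refl 3) F) :=
    (Fintype.bijective_iff_injective_and_card _).2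
      ⟨ZMod.castHom_injective F, by rw [ZMod.card, hc]⟩
  obtain ⟨n, hn⟩ := hb.2 v
  refine ⟨n, ?_⟩
  rw [← hn]
  exact (ZMod.natCast_val n).trans rfl

theorem good_of_chk (Nq : Q) (code : ℕ) (N : Sp4 F) (hN : N.1 = φ Nq)
    (h : chkN Nq code = true) : Good xF N := by
  simp only [chkN, Bool.and_eq_true, decide_eq_true_eq] at h
  obtain ⟨⟨hl, hk⟩, he⟩ := h
  set l := dec (code / 2 / 64) with hld
  set k := dec (selc.getD (code / 2 % 64) 0) with hkd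
  set lF : Sp4 F := ⟨φ l, φ_mem _ hl⟩ with hlF
  set kF : Sp4 F := ⟨φ k, φ_mem _ hk⟩ with hkF
  have hkinv : (kF⁻¹).1 = φ (⟨⟨k.u.c, k.v.c, 2 * k.r.c % 3, 2 * k.s.c % 3⟩,
        ⟨k.u.d, k.v.d, 2 * k.r.d % 3, 2 * k.s.d % 3⟩,
        ⟨2 * k.u.a % 3, 2 * k.v.a % 3, k.r.a, k.s.a⟩,
        ⟨2 * k.u.b % 3, 2 * k.v.b % 3, k.r.b, k.s.b⟩⟩ : Q) := by
    rw [SymplecticGroup.coe_inv]
    ext i j
    rcases i with i | i <;> rcases j with j | j <;> fin_cases i <;> fin_cases j <;>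
      simp [hkF, φ, mk4, Matrix.J, Matrix.mul_apply, Fintype.sum_sum_type, Fin.sum_univ_two,
        cast_mod, two_mul_eq]
  have key : ∀ T : Sp4 F, T.1 = φ (if code % 2 = 0 then Nq else neg Nq) → Two xF T := by
    intro T hT
    refine ⟨kF * xF * kF⁻¹, lF * xF * lF⁻¹, isConj_iff.2 ⟨kF, rfl⟩, isConj_iff.2 ⟨lF, rfl⟩, ?_⟩
    have e : T * lF = kF * xF * kF⁻¹ * (lF * xF) := by
      apply Subtype.ext
      simp only [coe_mul, hT, hkinv]
      simp only [hlF, hkF, xF]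
      rw [← φ_mul, ← φ_mul, ← φ_mul, ← φ_mul, ← φ_mul, he]
    rw [← mul_assoc (kF * xF * kF⁻¹), ← e, mul_inv_cancel_right]
  by_cases hc : code % 2 = 0
  · exact Or.inl (key N (by rw [if_pos hc, hN]))
  · exact Or.inr (key _ (by rw [if_neg hc, negOne_mul, hN, φ_neg]))

theorem good_of_col (hc : Fintype.card F = 3) (N : Sp4 F) (x z : Fin 3) (w : List (List ℕ))
    (hw : chkFam x.1 z.1 w = true) (h00 : N.1 (.inl 0) (.inl 0) = 1)
    (h10 : N.1 (.inl 1) (.inl 0) = (x.1 : F)) (h20 : N.1 (.inr 0) (.inl 0) = (z.1 : F))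
    (h30 : N.1 (.inr 1) (.inl 0) = 0) : Good xF N := by
  obtain ⟨M, -, hG⟩ := gauss N 1 (by simpa using h00)
  simp [h10, h20, h30] at hG
  obtain ⟨a, ha⟩ := exists_rep hc (M 0 0)
  obtain ⟨b, hb⟩ := exists_rep hc (M 0 1)
  obtain ⟨c, hcc⟩ := exists_rep hc (M 1 0)
  obtain ⟨d, hd⟩ := exists_rep hc (M 1 1)
  have hdet : (a.1 * d.1 + 2 * (b.1 * c.1)) % 3 = 1 := by
    have hM := M.det_coe
    rw [Matrix.det_fin_two, ← ha, ← hb, ← hcc, ← hd] at hM
    have h' : ((a.1 * d.1 + 2 * (b.1 * c.1) : ℕ) : F) = ((1 : ℕ) : F) := by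
      push_cast
      rw [two_mul_eq]
      linear_combination hM
    simpa [Nat.ModEq] using (CharP.natCast_eq_natCast F 3).1 h'
  obtain ⟨i, hi⟩ := ms_complete a b c d hdet
  obtain ⟨x', hx'⟩ := exists_rep hc (N.1 (.inl 0) (.inr 1))
  obtain ⟨y', hy'⟩ := exists_rep hc (-(N.1 (.inl 0) (.inl 1)))
  obtain ⟨z', hz'⟩ := exists_rep hc (N.1 (.inl 0) (.inr 0))
  simp only [chkFam, List.all_eq_true, List.mem_range] at hw
  have h := hw i.1 i.2 (x'.1 * 9 + y'.1 * 3 + z'.1) (by omega)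
  rw [show (x'.1 * 9 + y'.1 * 3 + z'.1) / 9 = x'.1 by omega,
    show (x'.1 * 9 + y'.1 * 3 + z'.1) / 3 % 3 = y'.1 by omega,
    show (x'.1 * 9 + y'.1 * 3 + z'.1) % 3 = z'.1 by omega, hi] at h
  refine good_of_chk _ _ N ?_ h
  have eU : (Um (x.1 : F) 0 (z.1 : F)).1 = φ (umN x.1 z.1) := by
    ext i j
    rcases i with i | i <;> rcases j with j | j <;> fin_cases i <;> fin_cases j <;>
      simp [Um, φ, umN, mk4, cast_mod, two_mul_eq]
  have eL : (L (1 : Fˣ) M).1 = φ (lN (a.1, b.1, c.1, d.1)) := by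
    ext i j
    rcases i with i | i <;> rcases j with j | j <;> fin_cases i <;> fin_cases j <;>
      simp [L, φ, lN, mk4, ha, hb, hcc, hd]
  have eP : (Up (x'.1 : F) (y'.1 : F) (z'.1 : F)).1 = φ (upN x'.1 y'.1 z'.1) := by
    ext i j
    rcases i with i | i <;> rcases j with j | j <;> fin_cases i <;> fin_cases j <;>
      simp [Up, φ, upN, mk4, cast_mod, two_mul_eq]
  rw [φ_mul, φ_mul, ← eU, ← eL, ← eP, hx', hy', hz', ← coe_mul, ← coe_mul]
  exact congrArg Subtype.val hG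

theorem good (hc : Fintype.card F = 3) (g : Sp4 F) (hg : g ∉ Subgroup.center (Sp4 F)) :
    Good xF g := by
  refine good_of_frames g hg 1 (fun N c hc0 h00 h10 h20 h30 => ?_)
    fun N _ h00 h10 h20 h30 => ?_
  · obtain ⟨z, hz⟩ := exists_rep hc c
    subst hz
    fin_cases z
    · simp at hc0
    · exact good_of_col hc N 0 1 wit0 fam0_ok h00 (by simpa using h10) h20 h30
    · exact good_of_col hc N 0 2 wit1 fam1_ok h00 (by simpa using h10) h20 h30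
  · exact good_of_col hc N 1 0 wit2 fam2_ok (by simpa using h00) (by simpa using h10)
      (by simpa using h20) h30

theorem not_dvd_orderOf : ¬ 3 ∣ orderOf (xF : Sp4 F) := fun h =>
  absurd (h.trans (orderOf_dvd_of_pow_eq_one xF_pow)) (by decide)

end Cfsg.Agent.SpSquare.Three
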