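import Mathlib.LinearAlgebra.SymplecticGroup
import Mathlib.LinearAlgebra.Matrix.SpecialLinearGroup
import Mathlib.GroupTheory.QuotientGroup.Basic
import Mathlib.Tactic

/-!
`Sp₄` in coordinates `(e, w₁, f, w₂)`: the unipotent radicals of the two opposite point
parabolics, the Levi elements `L a M`, the Gauss decomposition with respect to them, and conjugacy
inside the coset of a Levi element without fixed vectors.
-/

set_option autoImplicit false
set_option linter.unusedTactic false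
set_option linter.unreachableTactic false
set_option linter.unnecessarySeqFocus false

namespace Cfsg.Agent.SpSquare

open Matrix

abbrev Idx : Type := Fin 2 ⊕ Fin 2

variable {F : Type*} [Field F]

abbrev Sp4 (F : Type*) [Field F] := ↥(Matrix.symplecticGroup (Fin 2) F)

/-- A `4 × 4` matrix from its entries, coordinates in the order `e, w₁, f, w₂`. -/
def mk4 (n00 n01 n02 n03 n10 n11 n12 n13 n20 n21 n22 n23 n30 n31 n32 n33 : F) :
    Matrix Idx Idx F :=
  Matrix.fromBlocks !![n00, n01; n10, n11] !![n02, n03; n12, n13]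
    !![n20, n21; n30, n31] !![n22, n23; n32, n33]

/-- The alternating form on coordinate vectors. -/
def om (x y : Idx → F) : F :=
  x (.inl 0) * y (.inr 0) - x (.inr 0) * y (.inl 0) +
    (x (.inl 1) * y (.inr 1) - x (.inr 1) * y (.inl 1))

/-- The six relations between the columns of a symplectic matrix. -/
structure Rel (N : Matrix Idx Idx F) : Prop where
  h02 : om (fun i => N i (.inl 0)) (fun i => N i (.inr 0)) = 1
  h13 : om (fun i => N i (.inl 1)) (fun i => N i (.inr 1)) = 1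
  h01 : om (fun i => N i (.inl 0)) (fun i => N i (.inl 1)) = 0
  h03 : om (fun i => N i (.inl 0)) (fun i => N i (.inr 1)) = 0
  h12 : om (fun i => N i (.inl 1)) (fun i => N i (.inr 0)) = 0
  h23 : om (fun i => N i (.inr 0)) (fun i => N i (.inr 1)) = 0

theorem transpose_J_apply (N : Matrix Idx Idx F) (i j : Idx) :
    (Nᵀ * Matrix.J (Fin 2) F * N) i j = - om (fun k => N k i) (fun k => N k j) := by
  simp [Matrix.mul_apply, Matrix.J, om, Fintype.sum_sum_type, Fin.sum_univ_two]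
  ring

theorem mem_of_rel {N : Matrix Idx Idx F} (h : Rel N) : N ∈ symplecticGroup (Fin 2) F := by
  rw [SymplecticGroup.mem_iff']
  have hsw : ∀ x y : Idx → F, om y x = - om x y := fun x y => by simp only [om]; ring
  have hself : ∀ x : Idx → F, om x x = 0 := fun x => by simp only [om]; ring
  ext i j
  rw [transpose_J_apply]
  rcases i with i | i <;> rcases j with j | j <;> fin_cases i <;> fin_cases j <;>
    simp [Matrix.J, hself, h.h02, h.h13, h.h01, h.h03, h.h12, h.h23,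
      hsw (fun k => N k (.inl 0)), hsw (fun k => N k (.inl 1)), hsw (fun k => N k (.inr 0))]

theorem rel (g : Sp4 F) : Rel g.1 := by
  have h := SymplecticGroup.mem_iff'.1 g.2
  have e : ∀ i j, om (fun k => g.1 k i) (fun k => g.1 k j) = - Matrix.J (Fin 2) F i j := by
    intro i j
    have := congrFun (congrFun h i) j
    rw [transpose_J_apply] at this
    rw [← this, neg_neg]
  constructor <;> rw [e] <;> simp [Matrix.J]

/-- Relations as polynomial equations. -/
theorem rel_eqs (g : Sp4 F) :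
    let n := g.1
    (n (.inl 0) (.inl 0) * n (.inr 0) (.inr 0) - n (.inr 0) (.inl 0) * n (.inl 0) (.inr 0) +
      (n (.inl 1) (.inl 0) * n (.inr 1) (.inr 0) - n (.inr 1) (.inl 0) * n (.inl 1) (.inr 0)) = 1) ∧
    (n (.inl 0) (.inl 1) * n (.inr 0) (.inr 1) - n (.inr 0) (.inl 1) * n (.inl 0) (.inr 1) +
      (n (.inl 1) (.inl 1) * n (.inr 1) (.inr 1) - n (.inr 1) (.inl 1) * n (.inl 1) (.inr 1)) = 1) ∧
    (n (.inl 0) (.inl 0) * n (.inr 0) (.inl 1) - n (.inr 0) (.inl 0) * n (.inl 0) (.inl 1) +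
      (n (.inl 1) (.inl 0) * n (.inr 1) (.inl 1) - n (.inr 1) (.inl 0) * n (.inl 1) (.inl 1)) = 0) ∧
    (n (.inl 0) (.inl 0) * n (.inr 0) (.inr 1) - n (.inr 0) (.inl 0) * n (.inl 0) (.inr 1) +
      (n (.inl 1) (.inl 0) * n (.inr 1) (.inr 1) - n (.inr 1) (.inl 0) * n (.inl 1) (.inr 1)) = 0) ∧
    (n (.inl 0) (.inl 1) * n (.inr 0) (.inr 0) - n (.inr 0) (.inl 1) * n (.inl 0) (.inr 0) +
      (n (.inl 1) (.inl 1) * n (.inr 1) (.inr 0) - n (.inr 1) (.inl 1) * n (.inl 1) (.inr 0)) = 0) ∧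
    (n (.inl 0) (.inr 0) * n (.inr 0) (.inr 1) - n (.inr 0) (.inr 0) * n (.inl 0) (.inr 1) +
      (n (.inl 1) (.inr 0) * n (.inr 1) (.inr 1) - n (.inr 1) (.inr 0) * n (.inl 1) (.inr 1)) = 0) :=
  ⟨(rel g).h02, (rel g).h13, (rel g).h01, (rel g).h03, (rel g).h12, (rel g).h23⟩

/-- Element of the radical of the parabolic fixing `e`. -/
def Up (x y z : F) : Sp4 F :=
  ⟨mk4 1 (-y) z x 0 1 x 0 0 0 1 0 0 0 y 1,
    mem_of_rel (by constructor <;> simp [mk4, om] <;> ring)⟩

/-- Element of the opposite radical. -/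
def Um (x y z : F) : Sp4 F :=
  ⟨mk4 1 0 0 0 x 1 0 0 z y 1 (-x) y 0 0 1,
    mem_of_rel (by constructor <;> simp [mk4, om] <;> ring)⟩

/-- Levi element. -/
def L (a : Fˣ) (M : Matrix.SpecialLinearGroup (Fin 2) F) : Sp4 F :=
  ⟨mk4 a 0 0 0 0 (M 0 0) 0 (M 0 1) 0 0 (a⁻¹ : Fˣ) 0 0 (M 1 0) 0 (M 1 1),
    mem_of_rel (by
      have hd := M.det_coe
      rw [Matrix.det_fin_two] at hd
      constructor <;> simp [mk4, om]
      linear_combination hd)⟩

/-- The Weyl element exchanging `e` and `f`. -/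
def W : Sp4 F :=
  ⟨mk4 0 0 (-1) 0 0 1 0 0 1 0 0 0 0 0 0 1,
    mem_of_rel (by constructor <;> simp [mk4, om])⟩

theorem ext4 {g h : Sp4 F} (e : ∀ i j, g.1 i j = h.1 i j) : g = h := Subtype.ext (Matrix.ext e)

theorem coe_mul (g h : Sp4 F) : (g * h).1 = g.1 * h.1 := rfl

theorem coe_one : (1 : Sp4 F).1 = 1 := rfl

macro "mat4" : tactic =>
  `(tactic| (simp [coe_mul, coe_one, mk4, Up, Um, L, W, Matrix.mul_apply, Fintype.sum_sum_type,
      Fin.sum_univ_two]))

theorem Up_inv (x y z : F) : (Up x y z)⁻¹ = Up (-x) (-y) (-z) := by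
  refine inv_eq_of_mul_eq_one_right (ext4 fun i j => ?_)
  rcases i with i | i <;> rcases j with j | j <;> fin_cases i <;> fin_cases j <;> mat4 <;> ring

theorem Um_inv (x y z : F) : (Um x y z)⁻¹ = Um (-x) (-y) (-z) := by
  refine inv_eq_of_mul_eq_one_right (ext4 fun i j => ?_)
  rcases i with i | i <;> rcases j with j | j <;> fin_cases i <;> fin_cases j <;> mat4 <;> ring

theorem Up_zero : Up (0 : F) 0 0 = 1 := by
  refine ext4 fun i j => ?_
  rcases i with i | i <;> rcases j with j | j <;> fin_cases i <;> fin_cases j <;> mat4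

theorem Um_zero : Um (0 : F) 0 0 = 1 := by
  refine ext4 fun i j => ?_
  rcases i with i | i <;> rcases j with j | j <;> fin_cases i <;> fin_cases j <;> mat4

theorem L_mul (a b : Fˣ) (M N : Matrix.SpecialLinearGroup (Fin 2) F) :
    L a M * L b N = L (a * b) (M * N) := by
  refine ext4 fun i j => ?_
  rcases i with i | i <;> rcases j with j | j <;> fin_cases i <;> fin_cases j <;> mat4 <;>
    (try simp [Matrix.SpecialLinearGroup.coe_mul, Matrix.mul_apply, Fin.sum_univ_two]) <;> try ring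

theorem L_one : L (1 : Fˣ) (1 : Matrix.SpecialLinearGroup (Fin 2) F) = 1 := by
  refine ext4 fun i j => ?_
  rcases i with i | i <;> rcases j with j | j <;> fin_cases i <;> fin_cases j <;> mat4

theorem W_conj (a : Fˣ) (M : Matrix.SpecialLinearGroup (Fin 2) F) :
    L a⁻¹ M * W = W * L a M := by
  refine ext4 fun i j => ?_
  rcases i with i | i <;> rcases j with j | j <;> fin_cases i <;> fin_cases j <;> mat4

/-- A symplectic matrix whose first row and column are `(a, 0, 0, 0)` is a Levi element. -/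
theorem eq_L (N : Sp4 F) (a : Fˣ) (h00 : N.1 (.inl 0) (.inl 0) = a)
    (h01 : N.1 (.inl 0) (.inl 1) = 0) (h02 : N.1 (.inl 0) (.inr 0) = 0)
    (h03 : N.1 (.inl 0) (.inr 1) = 0) (h10 : N.1 (.inl 1) (.inl 0) = 0)
    (h20 : N.1 (.inr 0) (.inl 0) = 0) (h30 : N.1 (.inr 1) (.inl 0) = 0) :
    ∃ M : Matrix.SpecialLinearGroup (Fin 2) F, N = L a M ∧ M 0 0 = N.1 (.inl 1) (.inl 1) ∧
      M 0 1 = N.1 (.inl 1) (.inr 1) ∧ M 1 0 = N.1 (.inr 1) (.inl 1) ∧
      M 1 1 = N.1 (.inr 1) (.inr 1) := by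
  obtain ⟨e02, e13, e01, e03, e12, e23⟩ := rel_eqs N
  simp only [h00, h01, h02, h03, h10, h20, h30] at e02 e13 e01 e03 e12 e23
  have ha : (a : F) ≠ 0 := a.ne_zero
  have n21 : N.1 (.inr 0) (.inl 1) = 0 := by simpa [ha] using e01
  have n23 : N.1 (.inr 0) (.inr 1) = 0 := by simpa [ha] using e03
  have n22 : N.1 (.inr 0) (.inr 0) = (a⁻¹ : Fˣ) := by
    rw [Units.val_inv_eq_inv_val]
    exact eq_inv_of_mul_eq_one_right (by linear_combination e02)
  rw [n21, n23] at e13
  simp only [n21, n23] at e12 e23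
  set p := N.1 (.inl 1) (.inl 1) with hp
  set q := N.1 (.inl 1) (.inr 1) with hq
  set r := N.1 (.inr 1) (.inl 1) with hr
  set s := N.1 (.inr 1) (.inr 1) with hs
  set u := N.1 (.inl 1) (.inr 0) with hu
  set v := N.1 (.inr 1) (.inr 0) with hv
  have hu0 : u = 0 := by linear_combination p * e23 + q * e12 - u * e13
  have hv0 : v = 0 := by linear_combination r * e23 + s * e12 - v * e13
  refine ⟨⟨!![p, q; r, s], by rw [Matrix.det_fin_two_of]; linear_combination e13⟩, ?_, by simp,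
    by simp, by simp, by simp⟩
  refine ext4 fun i j => ?_
  rcases i with i | i <;> rcases j with j | j <;> fin_cases i <;> fin_cases j <;>
    simp [L, mk4, h00, h01, h02, h03, h10, h20, h30, n21, n22, n23, ← hp, ← hq, ← hr, ← hs,
      ← hu, ← hv, hu0, hv0]

/-- The middle block after clearing the first row and column. -/
def schur (N : Matrix Idx Idx F) (a : F) : Matrix (Fin 2) (Fin 2) F :=
  !![N (.inl 1) (.inl 1) - N (.inl 1) (.inl 0) * N (.inl 0) (.inl 1) / a,
     N (.inl 1) (.inr 1) - N (.inl 1) (.inl 0) * N (.inl 0) (.inr 1) / a;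
     N (.inr 1) (.inl 1) - N (.inr 1) (.inl 0) * N (.inl 0) (.inl 1) / a,
     N (.inr 1) (.inr 1) - N (.inr 1) (.inl 0) * N (.inl 0) (.inr 1) / a]

/-- Gauss decomposition. -/
theorem gauss (N : Sp4 F) (a : Fˣ) (h00 : N.1 (.inl 0) (.inl 0) = a) :
    ∃ M : Matrix.SpecialLinearGroup (Fin 2) F, (M : Matrix (Fin 2) (Fin 2) F) = schur N.1 a ∧
      N = Um (N.1 (.inl 1) (.inl 0) / a) (N.1 (.inr 1) (.inl 0) / a)
            (N.1 (.inr 0) (.inl 0) / a) * L a M *
          Up (N.1 (.inl 0) (.inr 1) / a) (-(N.1 (.inl 0) (.inl 1) / a))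
            (N.1 (.inl 0) (.inr 0) / a) := by
  have ha : (a : F) ≠ 0 := a.ne_zero
  set x := N.1 (.inl 1) (.inl 0) / (a : F) with hx
  set y := N.1 (.inr 1) (.inl 0) / (a : F) with hy
  set z := N.1 (.inr 0) (.inl 0) / (a : F) with hz
  set x' := N.1 (.inl 0) (.inr 1) / (a : F) with hx'
  set y' := -(N.1 (.inl 0) (.inl 1) / (a : F)) with hy'
  set z' := N.1 (.inl 0) (.inr 0) / (a : F) with hz'
  set R := (Um x y z)⁻¹ * N * (Up x' y' z')⁻¹ with hR
  have hR' : R = Um (-x) (-y) (-z) * N * Up (-x') (-y') (-z') := by rw [hR, Um_inv, Up_inv]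
  obtain ⟨M, hM, m00, m01, m10, m11⟩ := eq_L R a
    (by rw [hR']; mat4; simp [h00])
    (by rw [hR']; mat4; rw [h00, hy']; field_simp; ring)
    (by rw [hR']; mat4; rw [h00, hz', hx', hy']; field_simp; ring)
    (by rw [hR']; mat4; rw [h00, hx']; field_simp; ring)
    (by rw [hR']; mat4; rw [h00, hx]; field_simp; ring)
    (by rw [hR']; mat4; rw [h00, hx, hy, hz]; field_simp; ring)
    (by rw [hR']; mat4; rw [h00, hy]; field_simp; ring)
  refine ⟨M, ?_, ?_⟩
  · ext i j
    fin_cases i <;> fin_cases j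
    · simp only [schur]; rw [hR'] at m00; simp at m00 ⊢; rw [m00]; mat4
      rw [h00, hx, hy']; field_simp; ring
    · simp only [schur]; rw [hR'] at m01; simp at m01 ⊢; rw [m01]; mat4
      rw [h00, hx, hx']; field_simp; ring
    · simp only [schur]; rw [hR'] at m10; simp at m10 ⊢; rw [m10]; mat4
      rw [h00, hy, hy']; field_simp; ring
    · simp only [schur]; rw [hR'] at m11; simp at m11 ⊢; rw [m11]; mat4
      rw [h00, hy, hx']; field_simp; ring
  · rw [← hM, hR]; group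

/-- `M` has no eigenvector. -/
def NoEig (M : Matrix.SpecialLinearGroup (Fin 2) F) : Prop :=
  ∀ c : F, c ^ 2 - (M 0 0 + M 1 1) * c + 1 ≠ 0

/-- In the coset of `L a M` by the radical every element is conjugate to `L a M`. -/
theorem isConj_L_Up (a : Fˣ) (M : Matrix.SpecialLinearGroup (Fin 2) F) (ha : (a : F) ^ 2 ≠ 1)
    (hM : NoEig M) (x y z : F) : IsConj (L a M) (L a M * Up x y z) := by
  have hd := M.det_coe
  rw [Matrix.det_fin_two] at hd
  have h0 : (a : F) ≠ 0 := a.ne_zero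
  set b : F := (a : F)⁻¹ with hb
  set D : F := b ^ 2 - (M 0 0 + M 1 1) * b + 1 with hD
  have hD0 : D ≠ 0 := hM b
  set P : F := -(M 0 0 * x + M 0 1 * y) with hP
  set Q : F := -(M 1 0 * x + M 1 1 * y) with hQ
  set X : F := (P * (M 1 1 - b) - M 0 1 * Q) / D with hX
  set Y : F := ((M 0 0 - b) * Q - M 1 0 * P) / D with hY
  have eX : (M 0 0 - b) * X + M 0 1 * Y = P := by
    rw [hX, hY]; field_simp; rw [hD]; linear_combination P * hd
  have eY : M 1 0 * X + (M 1 1 - b) * Y = Q := by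
    rw [hX, hY]; field_simp; rw [hD]; linear_combination Q * hd
  have hab : (a : F) * b = 1 := mul_inv_cancel₀ h0
  have hz0 : b - a ≠ 0 := by
    intro e; apply ha
    rw [hb, sub_eq_zero] at e
    field_simp at e; exact e.symm
  set Z : F := (a * z - a * y * X + a * x * Y) / (b - a) with hZ
  have eZ : b * Z - a * Z = a * z - a * y * X + a * x * Y := by
    rw [← sub_mul, hZ]; field_simp
  have e1 : (a : F) * Y - Y * M 0 0 + X * M 1 0 = -((a : F) * y) := by
    linear_combination (a : F) * M 0 0 * eY - (a : F) * M 1 0 * eX - (a : F) * (Y + y) * hd -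
      (M 1 0 * X - M 0 0 * Y) * hab
  have e3 : -((a : F) * X) - Y * M 0 1 + X * M 1 1 = (a : F) * x := by
    linear_combination -(a : F) * M 1 1 * eX + (a : F) * M 0 1 * eY + (a : F) * (X + x) * hd +
      (M 0 1 * Y - M 1 1 * X) * hab
  refine isConj_iff.2 ⟨Up X Y Z, ?_⟩
  set R := Up X Y Z * L a M * (Up X Y Z)⁻¹ with hR
  have hR' : R = Up X Y Z * L a M * Up (-X) (-Y) (-Z) := by rw [hR, Up_inv]
  obtain ⟨M', hM', hG⟩ := gauss R a (by rw [hR']; mat4)
  have c1 : R.1 (.inl 1) (.inl 0) = 0 := by rw [hR']; mat4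
  have c2 : R.1 (.inr 0) (.inl 0) = 0 := by rw [hR']; mat4
  have c3 : R.1 (.inr 1) (.inl 0) = 0 := by rw [hR']; mat4
  have r1 : R.1 (.inl 0) (.inl 1) = -(a : F) * y := by
    rw [hR']; mat4
    linear_combination e1
  have r3 : R.1 (.inl 0) (.inr 1) = (a : F) * x := by
    rw [hR']; mat4
    linear_combination e3
  have r2 : R.1 (.inl 0) (.inr 0) = (a : F) * z := by
    rw [hR']; mat4
    rw [← hb]
    linear_combination eZ - Y * e3 - X * e1
  have hMM : M' = M := by
    apply Subtype.ext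
    rw [hM']
    ext i j
    fin_cases i <;> fin_cases j <;> simp [schur, c1, c3] <;> rw [hR'] <;> mat4
  rw [hG, c1, c2, c3, r1, r2, r3, hMM]
  simp [h0, Um_zero, mul_comm (a : F), neg_div]

theorem isConj_Um_L (a : Fˣ) (M : Matrix.SpecialLinearGroup (Fin 2) F) (ha : (a : F) ^ 2 ≠ 1)
    (hM : NoEig M) (x y z : F) : IsConj (L a M) (Um x y z * L a M) := by
  have hd := M.det_coe
  rw [Matrix.det_fin_two] at hd
  have h0 : (a : F) ≠ 0 := a.ne_zero
  set D : F := (a : F) ^ 2 - (M 0 0 + M 1 1) * a + 1 with hD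
  have hD0 : D ≠ 0 := hM a
  set P : F := (a : F) * x with hP
  set Q : F := (a : F) * y with hQ
  set X : F := (P * ((a : F) - M 1 1) + M 0 1 * Q) / D with hX
  set Y : F := (((a : F) - M 0 0) * Q + M 1 0 * P) / D with hY
  have eX : ((a : F) - M 0 0) * X - M 0 1 * Y = P := by
    rw [hX, hY]; field_simp; rw [hD]; linear_combination P * hd
  have eY : - M 1 0 * X + ((a : F) - M 1 1) * Y = Q := by
    rw [hX, hY]; field_simp; rw [hD]; linear_combination Q * hd
  have hz0 : (a : F) - (a : F)⁻¹ ≠ 0 := by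
    intro e; apply ha
    rw [sub_eq_zero] at e
    field_simp at e; linear_combination e
  set Z : F := (z * a + y * (M 0 0 * X + M 0 1 * Y) - x * (M 1 0 * X + M 1 1 * Y)) /
    ((a : F) - (a : F)⁻¹) with hZ
  have eZ : (a : F) * Z - (a : F)⁻¹ * Z =
      z * a + y * (M 0 0 * X + M 0 1 * Y) - x * (M 1 0 * X + M 1 1 * Y) := by
    rw [← sub_mul, hZ]; field_simp
  refine isConj_iff.2 ⟨Um X Y Z, ?_⟩
  set R := Um X Y Z * L a M * (Um X Y Z)⁻¹ with hR
  have hR' : R = Um X Y Z * L a M * Um (-X) (-Y) (-Z) := by rw [hR, Um_inv]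
  obtain ⟨M', hM', hG⟩ := gauss R a (by rw [hR']; mat4)
  have r1 : R.1 (.inl 0) (.inl 1) = 0 := by rw [hR']; mat4
  have r2 : R.1 (.inl 0) (.inr 0) = 0 := by rw [hR']; mat4
  have r3 : R.1 (.inl 0) (.inr 1) = 0 := by rw [hR']; mat4
  have c1 : R.1 (.inl 1) (.inl 0) = (a : F) * x := by
    rw [hR']; mat4
    linear_combination eX + hP
  have c3 : R.1 (.inr 1) (.inl 0) = (a : F) * y := by
    rw [hR']; mat4
    linear_combination eY + hQ
  have c2 : R.1 (.inr 0) (.inl 0) = (a : F) * z := by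
    rw [hR']; mat4
    have hab : (a : F) * (a : F)⁻¹ = 1 := mul_inv_cancel₀ h0
    linear_combination eZ + (a : F)⁻¹ * ((M 1 0 * X + M 1 1 * Y) * (eX + hP) -
      (M 0 0 * X + M 0 1 * Y) * (eY + hQ)) -
      ((y - Y) * (M 0 0 * X + M 0 1 * Y) - (x - X) * (M 1 0 * X + M 1 1 * Y)) * hab
  have hMM : M' = M := by
    apply Subtype.ext
    rw [hM']
    ext i j
    fin_cases i <;> fin_cases j <;> simp [schur, r1, r3] <;> rw [hR'] <;> mat4
  rw [hG, r1, r2, r3, c1, c2, c3, hMM]
  simp [h0, Up_zero, mul_comm (a : F)]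

end Cfsg.Agent.SpSquare
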